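import Cfsg.Agent.Lib.ToddCox.Glue
set_option autoImplicit false
set_option maxRecDepth 100000
namespace Cfsg.Agent.Lib.ToddCox.J3C3
def E_0 : ℕ := 0x2104000080000080100002100001f00000084000084000001f00001e00000080000080000001e00001d0400007c00007c100001d00001c04000078000078100001c00001b00000074000074000001b00001a00000070000070000001a0000190400006c00006c10000190000180400006800006810000180000170000006400006400000170000160000006000006000000160000150400005c00005c10000150000140400005800005810000140000130000005400005400000130000120000005000005000000120000110400004c00004c100001100001004000048000048100001000000f00000044000044000000f00000e00000040000040000000e00000d0400003c00003c100000d00000c04000038000038100000c00000b00000034000034000000b00000a00000030000030000000a0000090400002c00002c10000090000080400002800002810000080000070000002400002400000070000060000002000002000000060000050400001c00001c10000050000040400001800001810000040000030000001400001400000030000020000001000001000000020000010400000c00000c1000001000000040000080000081000000000000000000040000040000000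
end Cfsg.Agent.Lib.ToddCox.J3C3
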